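import Groth.Agent.AgPol.K814.MulEpi
import Groth.Agent.Etdl.H427.RankComp
import Groth.Agent.Flat2D.LfpComp
import Groth.Agent.S1842
import Groth.Agent.S7788

/-!
# Degrees of roots of homomorphisms of abelian schemes

* `finrank_pow` : `[n]` has rank `n ^ (2 g)` at every point of an abelian scheme of relative dimension `g`;
* `hasDegSq_of_pow` : if `lam ^ n` has degree `(n ^ g d) ^ 2`, then `lam` has degree `d ^ 2`.
-/

set_option autoImplicit false
universe u

open CategoryTheory Limits MonoidalCategory CartesianMonoidalCategory AlgebraicGeometry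
open scoped MonObj

namespace K513.PolDeg

open K814

variable {S : Scheme.{u}}

theorem map_pow_one {S' : Scheme.{u}} (t : S' ⟶ S) (A : Over S) [GrpObj A] (n : ℕ) :
    (Over.pullback t).map (𝟙 A ^ n : A ⟶ A) = 𝟙 ((Over.pullback t).obj A) ^ n := by
  have := Groth.Agent.Grpsch.AbBC.map_zpow_one t A (n : ℤ)
  rwa [zpow_natCast, zpow_natCast] at this

theorem isFinite_pow (A : Over S) [GrpObj A] [IsCommMonObj A] [Smooth A.hom] [IsProper A.hom]
    [GeometricallyConnected A.hom] (g : ℕ) (hdim : ∀ s : S, topologicalKrullDim ↥(A.hom.fiber s) = g) (n : ℕ)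
    (hn : 1 ≤ n) : IsFinite (𝟙 A ^ n : A ⟶ A).left := by
  have hred : GeometricallyReduced A.hom := Groth.Agent.Flat2B.SmoothGeom.geometricallyReduced_of_smooth A.hom
  have h := (Groth.Agent.S7788.result A (fun _ ↦ g) hdim (n : ℤ) (by omega)).1
  rwa [zpow_natCast] at h

/-- The rank of `[n]`. -/
theorem finrank_pow (A : Over S) [GrpObj A] [IsProper A.hom] [GeometricallyIntegral A.hom]
    (g : ℕ) (hdim : ∀ s : S, topologicalKrullDim ↥(A.hom.fiber s) = g) (n : ℕ) (hn : 1 ≤ n)
    [IsFinite (𝟙 A ^ n : A ⟶ A).left] [Flat (𝟙 A ^ n : A ⟶ A).left] (a : A.left) :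
    (𝟙 A ^ n : A ⟶ A).left.finrank a = n ^ (2 * g) := by
  let t : Spec (CommRingCat.of (S.residueField (A.hom a))) ⟶ S := S.fromSpecResidueField (A.hom a)
  let : GrpObj ((Over.pullback t).obj A) := Functor.grpObjObj
  have i1 : IsProper ((Over.pullback t).obj A).hom := inferInstanceAs (IsProper (pullback.snd A.hom t))
  have i2 : GeometricallyIntegral ((Over.pullback t).obj A).hom :=
    inferInstanceAs (GeometricallyIntegral (pullback.snd A.hom t))
  obtain ⟨-, -, h1⟩ := Groth.Agent.S1842.pos_case _ ((Over.pullback t).obj A) g (hdim _) n hn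
  obtain ⟨z, hz⟩ : ∃ z : ↥((Over.pullback t).obj A).left, pullback.fst A.hom t z = a := by
    have h2 : A.hom a ∈ Set.range t := by
      rw [Scheme.range_fromSpecResidueField]
      rfl
    obtain ⟨p, hp⟩ := h2
    obtain ⟨z, hz, -⟩ := Scheme.Pullback.exists_preimage_pullback (f := A.hom) (g := t) a p hp.symm
    exact ⟨z, hz⟩
  have h3 := (Groth.Agent.Grpsch.AbBC.isPullback_pullback_map t (𝟙 A ^ n : A ⟶ A)).flip
  rw [map_pow_one] at h3
  rw [← hz, ← Scheme.Hom.finrank_of_isPullback _ _ _ _ h3, h1]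

/-- **Degrees of roots.** -/
theorem hasDegSq_of_pow {A At : Over S} [GrpObj A] [IsCommMonObj A] [GrpObj At] {g h : ℕ} (hA : AgPol.IsAbSch A g)
    (hAt : AgPol.IsAbSch At h) (lam : A ⟶ At) [IsMonHom lam] (n d : ℕ) (hn : 1 ≤ n) (hd : 1 ≤ d)
    (hdeg : AgPol.HasDegSq (lam ^ n) (n ^ g * d)) : AgPol.HasDegSq lam d := by
  have a1 := hA.smooth
  have a2 := hA.proper
  have a3 := hA.geomConnected
  have a4 : GeometricallyIntegral A.hom := K814.AbBasic.geometricallyIntegral A
  have b1 := hAt.smooth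
  have b2 := hAt.proper
  have b3 := hAt.geomConnected
  have b4 : GeometricallyReduced At.hom := Groth.Agent.Flat2B.SmoothGeom.geometricallyReduced_of_smooth At.hom
  have e : lam ^ n = (𝟙 A ^ n) ≫ lam := by rw [MonObj.pow_comp, Category.id_comp]
  rw [e] at hdeg
  obtain ⟨c1, c2, c3, c4⟩ := hdeg
  rw [Over.comp_left] at c1 c2 c3 c4
  have m1 := isFinite_pow A g hA.fibreDim n hn
  have m2 := MulEpi.flat_pow A n hn
  have m3 := MulEpi.surjective_pow A n hn
  have m4 := finrank_pow A g hA.fibreDim n hn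
  have hs : Surjective ((𝟙 A ^ n : A ⟶ A).left ≫ lam.left) := by
    rw [← Scheme.Hom.one_le_finrank_iff_surjective]
    intro y
    rw [c4 y, Pi.one_apply]
    exact Nat.one_le_pow _ _ (Nat.mul_pos (Nat.pow_pos hn) hd)
  have hs' : Surjective lam.left := .of_comp (𝟙 A ^ n : A ⟶ A).left lam.left
  have p1 : IsProper lam.left := K814.AbBasic.isProper_left A lam
  have p2 : Flat lam.left := K449.FlatHom.flat_of_surjective lam
  have p3 : LocallyOfFinitePresentation lam.left := by
    have : LocallyOfFinitePresentation (lam.left ≫ At.hom) := by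
      rw [Over.w]
      infer_instance
    exact Groth.Agent.Flat2D.LfpComp.lfp_of_comp lam.left At.hom
  have p4 : LocallyQuasiFinite lam.left := by
    refine .of_finite_preimage_singleton _ fun y ↦ ?_
    refine (((𝟙 A ^ n : A ⟶ A).left ≫ lam.left).finite_preimage_singleton y).image (𝟙 A ^ n : A ⟶ A).left |>.subset ?_
    intro x hx
    obtain ⟨z, rfl⟩ := m3.surj x
    refine ⟨z, ?_, rfl⟩
    simpa using hx
  have p5 : IsFinite lam.left := .of_isProper_of_locallyQuasiFinite _
  refine ⟨p5, p2, p3, fun y ↦ ?_⟩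
  have h5 := c4 y
  rw [Groth.Agent.Etdl.H427.RankComp.finrank_comp _ _ _ m4 y, mul_pow, ← pow_mul, mul_comm g 2] at h5
  exact Nat.eq_of_mul_eq_mul_left (Nat.pow_pos hn) h5

end K513.PolDeg
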