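import Groth.Agent.AgPol.K117.Nodes
import Groth.Agent.AgPol.K814.MumHom
import Groth.Agent.AgPol.K814.MulEpi
import Groth.Agent.AbDual.K732.Constr
import Groth.Agent.Etdl.H427.RankComp

/-!
# The class of a polarisation, with respect to a given dual; uniqueness of cube roots

* `exists_lam` : a polarisation class `c` (`K117.Ag.IsPolCl`) is `(1, lam)^* P` for EVERY dual and Poincaré class;
* `isPolarization_comp` : polarisations are transported along the isomorphism of two duals;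
* `hom_polCl` : the homomorphism attached to `c = (1, lam)^* P` is `lam ^ 2`;
* `polUniq` : `K117.Ag.Node.PolUniq`.
-/

set_option autoImplicit false
universe u

open CategoryTheory Limits MonoidalCategory CartesianMonoidalCategory AlgebraicGeometry
open scoped MonObj

namespace K513.PolUniq

open Groth.Agent.Grpsch.PicGrp Groth.Agent.Fga.RigGrp K732.PicZero K732.Prim K732.Dual K732.CubeSec
open K814 K732.BC

variable {S : Scheme.{u}} {A At : Over S} [GrpObj A] [GrpObj At]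

section transp

variable [IsProper A.hom] [Flat A.hom] [LocallyOfFinitePresentation A.hom] [GeometricallyIntegral A.hom]
  {φ : ∀ T : Over S, PicF.Cl (PicF.XT A.hom T) → (T ⟶ At)}
  {Bt : Over S} [GrpObj Bt] {ψ : ∀ T : Over S, PicF.Cl (PicF.XT A.hom T) → (T ⟶ Bt)}

omit [GrpObj A] [GrpObj At] [GrpObj Bt] [IsProper A.hom] [Flat A.hom] [LocallyOfFinitePresentation A.hom]
  [GeometricallyIntegral A.hom] in
/-- The comparison of two duals after base change. -/
lemma cm_bc (v : At ⟶ Bt)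
    (hu : ∀ (T : Over S) (c : Pic (PicF.XT A.hom T)), c ∈ pz A.hom T → cm ψ c = cm φ c ≫ v)
    {S' : Scheme.{u}} (k : S' ⟶ S) (T : Over S') (c : Pic (PicF.XT (Red.bc k A).hom T))
    (hc : c ∈ pz (Red.bc k A).hom T) :
    cm (At := Red.bc k Bt) (AgPol.bcDual k A Bt ψ) c =
      cm (At := Red.bc k At) (AgPol.bcDual k A At φ) c ≫ (Over.pullback k).map v := by
  obtain ⟨d, rfl⟩ := exists_bcE c
  rw [mem_pz_bcE] at hc
  rw [cm_bcE, cm_bcE, hu _ _ hc, up_comp]

omit [GrpObj At] [GrpObj Bt] [Flat A.hom] [LocallyOfFinitePresentation A.hom] in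
lemma hom_comp (v : At ⟶ Bt)
    (hu : ∀ (T : Over S) (c : Pic (PicF.XT A.hom T)), c ∈ pz A.hom T → cm ψ c = cm φ c ≫ v) (c : Pic A.left) :
    MumHom.hom ψ c = MumHom.hom φ c ≫ v :=
  hu _ _ (MumHom.mum_pz c)

omit [Flat A.hom] [LocallyOfFinitePresentation A.hom] in
/-- Transport of polarisations along a morphism of duals. -/
theorem isPolarization_comp (v : At ⟶ Bt) [IsMonHom v]
    (hu : ∀ (T : Over S) (c : Pic (PicF.XT A.hom T)), c ∈ pz A.hom T → cm ψ c = cm φ c ≫ v)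
    {lam : A ⟶ At} (h : AgPol.IsPolarization A At φ lam) : AgPol.IsPolarization A Bt ψ (lam ≫ v) := by
  have := h.1
  refine ⟨inferInstance, fun Ω _ _ t ↦ ?_⟩
  obtain ⟨L, hL, hl⟩ := h.2 Ω t
  refine ⟨L, hL, ?_⟩
  have i1 : IsProper (Red.bc t A).hom := inferInstanceAs (IsProper (pullback.snd A.hom t))
  have i2 : GeometricallyIntegral (Red.bc t A).hom := inferInstanceAs (GeometricallyIntegral (pullback.snd A.hom t))
  rw [MumHom.isLambda_iff (A := Red.bc t A) (At := Red.bc t At) _ hL.1] at hl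
  rw [MumHom.isLambda_iff (A := Red.bc t A) (At := Red.bc t Bt) _ hL.1, Functor.map_comp, hl]
  exact (hom_comp (A := Red.bc t A) ((Over.pullback t).map v) (cm_bc v hu t) _).symm

variable (hD : AbDual.IsDualAV Scheme.fppfPrecoverage A At φ)
  {ξ : Pic (PicF.XT A.hom At)} (h1 : ξ ∈ pz A.hom At) (h2 : ξ ∈ rg A At) (h3 : cm φ ξ = 𝟙 At)

include hD h1 h2 h3

omit [GrpObj Bt] in
/-- The Poincaré classes of two duals. -/
lemma poinc_eq (u : Bt ≅ At)
    (hu : ∀ (T : Over S) (c : Pic (PicF.XT A.hom T)), c ∈ pz A.hom T → cm φ c = cm ψ c ≫ u.hom)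
    {ζ : Pic (PicF.XT A.hom Bt)} (z1 : ζ ∈ pz A.hom Bt) (z2 : ζ ∈ rg A Bt) (z3 : cm ψ ζ = 𝟙 Bt) :
    ζ = pull (PicF.XTmap A.hom u.hom) ξ := by
  have e := eq_pull_poinc hD (bijective_XTproj A.hom) h1 h2 h3 z1 z2
  rwa [hu _ _ z1, z3, Category.id_comp] at e

/-- **A polarisation class with respect to a given dual.** -/
theorem exists_lam {d : ℕ} {c : Pic A.left} (hc : K117.Ag.IsPolCl A d c) :
    ∃ lam : A ⟶ At, AgPol.IsPolarization A At φ lam ∧ AgPol.HasDegSq lam d ∧ c = ev (𝟙 A) lam ξ := by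
  obtain ⟨Bt, _, _, ψ, ζ, mu, hE, z1, z2, z3, hp, hd, rfl⟩ := hc
  obtain ⟨u, hum, hu⟩ := K732.Constr.exists_iso hE (bijective_XTproj A.hom) hD
  refine ⟨mu ≫ u.hom, isPolarization_comp u.hom hu hp, ?_, ?_⟩
  · have i1 : IsIso u.hom.left := inferInstanceAs (IsIso ((Over.forget S).map u.hom))
    obtain ⟨d1, d2, d3, d4⟩ := hd
    refine ⟨?_, ?_, ?_, ?_⟩
    · rw [Over.comp_left]; infer_instance
    · rw [Over.comp_left]; infer_instance
    · rw [Over.comp_left]; infer_instance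
    · intro y
      rw [Over.comp_left, Groth.Agent.Etdl.H427.RankComp.finrank_comp _ _ (d ^ 2) d4 y,
        Scheme.Hom.finrank_eq_one_of_isIso, Pi.one_apply, _root_.mul_one]
  · rw [poinc_eq hD h1 h2 h3 u hu z1 z2 z3, ev_XTmap]

/-- The homomorphism attached to the class of a polarisation. -/
theorem hom_polCl {lam : A ⟶ At} (hlam : AgPol.IsPolarization A At φ lam) :
    MumHom.hom φ (ev (𝟙 A) lam ξ) = lam * lam := by
  obtain ⟨L, hL, hLc⟩ := exists_mk (ev (𝟙 A) lam ξ)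
  rw [hLc]
  exact ((MumHom.isLambda_iff φ hL _).1 (Graph.isLambda hD h1 h2 h3 hlam L hL hLc.symm)).symm

end transp

/-- **POLUNIQ**, for any exponent `k ≥ 1`. -/
theorem pow_inj (A : Over S) [GrpObj A] [IsCommMonObj A] (g d k : ℕ) (hk : 1 ≤ k) (hA : AgPol.IsAbSch A g)
    (c c' : Pic A.left) (hc : K117.Ag.IsPolCl A d c) (hc' : K117.Ag.IsPolCl A d c') (h : c ^ k = c' ^ k) : c = c' := by
  have := hA.smooth
  have := hA.proper
  have := hA.geomConnected
  have hint : GeometricallyIntegral A.hom := K814.AbBasic.geometricallyIntegral A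
  obtain ⟨At, iG, _, φ, ξ, lam, hD, h1, h2, h3, hp, -, rfl⟩ := hc
  obtain ⟨lam', hp', -, rfl⟩ := exists_lam hD h1 h2 h3 hc'
  have e := Graph.pow_eq hD h1 h2 h3 hp hp' k (by
    have e1 := Graph.gr_pow hD h1 h2 h3 lam k (𝟙 A)
    have e2 := Graph.gr_pow hD h1 h2 h3 lam' k (𝟙 A)
    rw [Category.id_comp, Category.id_comp] at e1 e2
    rw [e1, e2, h])
  have := hp.1
  have := hp'.1
  rw [MulEpi.eq_of_pow_eq A (2 * k) (by omega) e]

/-- **POLUNIQ** -/
theorem polUniq : K117.Ag.Node.PolUniq.{u} :=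
  fun _ _ A _ _ g d hA c c' hc hc' h ↦ pow_inj A g d 3 (by norm_num) hA c c' hc hc' h

end K513.PolUniq
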