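import Groth.Agent.AgPol.K513.PolLocus
import Groth.Agent.AgPol.K814.DualNode
import Groth.Agent.AgPol.K814.Unnorm
import Groth.Agent.AgPol.K814.RankPush

/-!
# POLLOC, without hypotheses

* `degStmt` : the homomorphism attached to a relatively ample module `L` with `π_* L` of rank `r` has degree `r ^ 2`
  (no projectivity);
* `main` : `K117.Ag.Node.PolLocus`.
-/

set_option autoImplicit false
universe u

open CategoryTheory Limits MonoidalCategory CartesianMonoidalCategory AlgebraicGeometry

namespace K513.PolLocusMain

theorem degStmt : K513.PolLocus.DegStmt.{u} := by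
  intro S _ A At _ _ _ _ _ φ hD L hL hLa r hr
  have hFA := K814.RankPush.FA_of_isRelAmple A.hom hL hLa
  obtain ⟨h1, h2, h3, -, h4⟩ := K814.HomDeg.main hD hL hFA
  refine ⟨h1, h2, h3, fun y => ?_⟩
  rw [h4, K814.RankPush.fiberRank_eq hL hFA hr]

/-- **POLLOC** -/
theorem main : K117.Ag.Node.PolLocus.{u} :=
  K513.PolLocus.of_deg K814.DualNode.node degStmt

end K513.PolLocusMain
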