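import Groth.Agent.AgPol.K513.PolSym
import Groth.Agent.AgPol.K513.PolDeg
import Groth.Agent.AgPol.K533.PolBC
import Groth.Agent.AgPol.K814.PolTrans
import Groth.Agent.AbVar.K875.Symm
import Groth.Agent.S19948

/-!
# The closed subscheme where a class is the cube of the class of a polarisation

* `isPolarization` : a symmetric homomorphism `lam` such that `lam ^ n` is attached to a relatively ample module is a
  polarisation;
* `of_deg` : `K117.Ag.Node.PolLocus` from `K117.Ag.Node.Dual` and the degree formula.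
-/

set_option autoImplicit false
universe u

open CategoryTheory Limits MonoidalCategory CartesianMonoidalCategory AlgebraicGeometry
open scoped MonObj

namespace K513.PolLocus

open Groth.Agent.Grpsch.PicGrp Groth.Agent.Fga.RigGrp K732.PicZero K732.Prim K732.Dual K732.CubeSec
open K814 K732.BC MumHom

/-- Descent of invertible modules along isogenies with isotropic kernel. -/
theorem descent (Ω : Type u) [Field Ω] [IsAlgClosed Ω] : K875.Symm.Descent Ω := by
  intro A _ _ _ _ B _ _ _ _ f _ _ hf N _ i _ hN L hL K iK hK hy hiso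
  exact (Groth.Agent.S19948.result Ω A B f hf N i hN L hL K iK hK).mpr ⟨hy, hiso⟩

lemma isMonHom_mul {S : Scheme.{u}} {A At : Over S} [GrpObj A] [GrpObj At] [IsCommMonObj At] (lam : A ⟶ At)
    [IsMonHom lam] : IsMonHom (lam * lam) := by
  have h := Groth.Agent.Grpsch.MulFinFlat.isMonHom_zpow lam 2
  rwa [zpow_two] at h

section pol

variable {S : Scheme.{u}} {A At : Over S} [GrpObj A] [GrpObj At] [IsProper A.hom] [Flat A.hom]
  [LocallyOfFinitePresentation A.hom] [GeometricallyIntegral A.hom] [IsSeparated At.hom]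
  {φ : ∀ T : Over S, PicF.Cl (PicF.XT A.hom T) → (T ⟶ At)}
  (hD : AbDual.IsDualAV Scheme.fppfPrecoverage A At φ)
  {ξ : Pic (PicF.XT A.hom At)} (h1 : ξ ∈ pz A.hom At) (h2 : ξ ∈ rg A At) (h3 : cm φ ξ = 𝟙 At)

include hD h1 h2 h3

/-- A symmetric homomorphism, a power of which is attached to a relatively ample module, is a polarisation. -/
theorem isPolarization (lam : A ⟶ At) [IsMonHom lam]
    (hs : ∀ {W : Over S} (a b : W ⟶ A), ev a (b ≫ lam) ξ = ev b (a ≫ lam) ξ)
    {L : A.left.Modules} (hL : PicF.IsInvertible L) (hLa : RelAmple.IsRelAmple A.hom L) (n : ℕ) (hn : 1 ≤ n)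
    (h : hom φ (mk L hL) = lam ^ n) : AgPol.IsPolarization A At φ lam := by
  refine ⟨inferInstance, fun Ω _ _ t ↦ ?_⟩
  obtain ⟨N, hN, hlN⟩ := K875.Symm.exists_isLambda_bc hD h1 h2 h3 (descent Ω) t lam hs
  refine ⟨N, ?_, hlN⟩
  have i1 : IsProper (Red.bc t A).hom := inferInstanceAs (IsProper (pullback.snd A.hom t))
  have i2 : GeometricallyIntegral (Red.bc t A).hom := inferInstanceAs (GeometricallyIntegral (pullback.snd A.hom t))
  have hLt : CohB1.IsAmple ((Scheme.Modules.pullback (pullback.fst A.hom t)).obj L) := by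
    have h4 := Groth.Agent.Ega2.RelAmp.relAmple_baseChange A.hom t L hLa
    rwa [Groth.Agent.Ega2.RelAmp.isRelAmple_iff_isAmple] at h4
  rw [isLambda_iff (A := Red.bc t A) (At := Red.bc t At) _ hN] at hlN
  have e1 := hom_bc hD t (mk L hL)
  rw [pull_mk, h] at e1
  refine PolSym.ample (A := Red.bc t A) (At := Red.bc t At) (isDualAV_bc hD) hLt hN n hn ?_
  rw [← hlN]
  refine e1.symm.trans ?_
  exact map_pow (Functor.homMonoidHom (Over.pullback t) (X := A) (M := At)) lam n

end pol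

/-- The degree formula for a relatively ample module. -/
def DegStmt : Prop := ∀ (S : Scheme.{u}) [IsLocallyNoetherian S] (A At : Over S) [GrpObj A] [GrpObj At]
    [Smooth A.hom] [IsProper A.hom] [GeometricallyIntegral A.hom]
    (φ : AgPol.DualMap A At) (_ : AbDual.IsDualAV Scheme.fppfPrecoverage A At φ)
    (L : A.left.Modules) (hL : PicF.IsInvertible L) (_ : RelAmple.IsRelAmple A.hom L) (r : ℕ)
    (_ : FlatMod.IsFinLocFreeOfRank r ((Coh.push A.hom).obj L)),
    AgPol.HasDegSq (hom φ (mk L hL)) r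

section main

variable {S : Scheme.{u}} {A At : Over S} [GrpObj A] [IsCommMonObj A] [GrpObj At] [IsCommMonObj At]
  {φ : ∀ T : Over S, PicF.Cl (PicF.XT A.hom T) → (T ⟶ At)}
  (hD : AbDual.IsDualAV Scheme.fppfPrecoverage A At φ)
  {ξ : Pic (PicF.XT A.hom At)} (h1 : ξ ∈ pz A.hom At) (h2 : ξ ∈ rg A At) (h3 : cm φ ξ = 𝟙 At)

include hD h1 h2 h3

/-- Powers of the class of a polarisation, over a fixed base: `3` may be any `k ≥ 1`. -/
theorem iff_base {g d : ℕ} (hd : 1 ≤ d) (hA : AgPol.IsAbSch A g) (hAt : AgPol.IsAbSch At g)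
    {L : A.left.Modules} (hL : PicF.IsInvertible L) (hLa : RelAmple.IsRelAmple A.hom L) (k : ℕ) (hk : 1 ≤ k)
    (hdeg : AgPol.HasDegSq (hom φ (mk L hL)) ((2 * k) ^ g * d)) :
    (∃ c : Pic A.left, pull (η[A] : 𝟙_ (Over S) ⟶ A).left c = 1 ∧ K117.Ag.IsPolCl A d c ∧ c ^ k = mk L hL) ↔
      ∃ lam : A ⟶ At, IsMonHom lam ∧ lam ^ (2 * k) = hom φ (mk L hL) ∧ mk L hL = ev (𝟙 A) (lam ^ k) ξ := by
  have a1 := hA.smooth
  have a2 := hA.proper
  have a3 := hA.geomConnected
  have a4 : GeometricallyIntegral A.hom := K814.AbBasic.geometricallyIntegral A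
  have b2 := hAt.proper
  constructor
  · rintro ⟨c, -, hc, hcL⟩
    obtain ⟨lam, hp, -, rfl⟩ := PolUniq.exists_lam hD h1 h2 h3 hc
    refine ⟨lam, hp.1, ?_, ?_⟩
    · rw [← hcL, PolSym.hom_pow hD, PolUniq.hom_polCl hD h1 h2 h3 hp, pow_mul, pow_two]
    · have e := Graph.gr_pow hD h1 h2 h3 lam k (𝟙 A)
      rw [Category.id_comp, Category.id_comp] at e
      rw [e, hcL]
  · rintro ⟨lam, hm, hl, hl'⟩
    have e := Graph.gr_pow hD h1 h2 h3 lam k (𝟙 A)
    rw [Category.id_comp, Category.id_comp] at e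
    rw [e] at hl'
    have hrig := PolSym.ev_rig h2 lam
    have hm1 : IsMonHom (hom φ (ev (𝟙 A) lam ξ)) := isMonHom_hom hD hrig
    have hm2 := isMonHom_mul lam
    have e2 : hom φ (ev (𝟙 A) lam ξ) = lam * lam := by
      refine MulEpi.eq_of_pow_eq A k hk ?_
      rw [← PolSym.hom_pow hD, ← hl', ← hl, pow_mul, pow_two]
    refine ⟨ev (𝟙 A) lam ξ, hrig, ?_, hl'.symm⟩
    refine ⟨At, inferInstance, inferInstance, φ, ξ, lam, hD, h1, h2, h3, ?_, ?_, rfl⟩
    · exact isPolarization hD h1 h2 h3 lam (fun a b ↦ PolSym.symm hD h1 h2 h3 lam e2 a b) hL hLa (2 * k)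
        (by omega) hl.symm
    · exact PolDeg.hasDegSq_of_pow hA hAt lam (2 * k) d (by omega) hd (by rwa [hl])

end main

/-- **POLLOC** from the existence of the dual and the degree formula. -/
theorem of_deg (hdual : K117.Ag.Node.Dual.{u}) (hdeg : DegStmt.{u}) : K117.Ag.Node.PolLocus.{u} := by
  intro T _ A _ _ g d hg hd hA L hL hLa hr hc
  have a1 := hA.smooth
  have a2 := hA.proper
  have a3 := hA.geomConnected
  have a4 : GeometricallyIntegral A.hom := K814.AbBasic.geometricallyIntegral A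
  obtain ⟨At, _, _, φ, hD, hAt⟩ := hdual T A g hA L hLa
  obtain ⟨ξ, h1, h2, h3⟩ := exists_poinc hD (bijective_XTproj A.hom)
  have hfin := PolDeg.isFinite_pow A g hA.fibreDim 6 (by norm_num)
  obtain ⟨Z, z, hz, H⟩ := PolClosed.closed_main hD h1 h2 h3 hc 6 3 (by norm_num) hfin
  refine ⟨Z, z, hz, fun T' _ f ↦ ?_⟩
  have hHL := H (Over.mk f) ‹IsLocallyNoetherian T'›
  refine Iff.trans ?_ (((PolTrans.trans hD (Over.mk f) hc 6 3 (by norm_num) ξ).symm.trans hHL.symm))
  have hLT : PicF.IsInvertible ((Scheme.Modules.pullback (pullback.fst A.hom f)).obj L) :=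
    Groth.Agent.Fdesc.LocGen.isInvertible_pullback _ hL
  have hdeg' : AgPol.HasDegSq (hom (A := Red.bc f A) (At := Red.bc f At) (AgPol.bcDual f A At φ)
      (mk ((Scheme.Modules.pullback (pullback.fst A.hom f)).obj L) hLT)) ((2 * 3) ^ g * d) := by
    have e := hom_bc hD f (mk L hL)
    rw [pull_mk] at e
    have h5 := K533.PolBC.hasDegSq_bc f (hdeg T A At φ hD L hL hLa _ hr)
    rw [e] at h5
    exact h5
  have key := iff_base (A := Red.bc f A) (At := Red.bc f At) (isDualAV_bc hD) (bcXi_mem_pz h1) (bcXi_mem_rg h2)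
    (K533.PolBC.cm_bcXi_eq f hD h1 h3) hd (K533.PolBC.isAbSch_bc f hA) (K533.PolBC.isAbSch_bc f hAt) hLT
    (Groth.Agent.Ega2.RelAmp.relAmple_baseChange A.hom f L hLa) 3 (by norm_num) hdeg'
  have e := hom_bc hD f (mk L hL)
  rw [pull_mk] at e ⊢
  refine key.trans (exists_congr fun lam ↦ and_congr_right fun _ ↦ and_congr ?_ Iff.rfl)
  rw [← e]
  exact Iff.rfl

end K513.PolLocus
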