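import Groth.Agent.AgPol.K513.PolUniq
import Groth.Agent.AbVar.K512.PhiSurj
import Groth.Agent.EGA2.K30.AmpleLoc
import Groth.Agent.Ega2.RelAmp
import Groth.Agent.CohqB.AmpGeneric
import Groth.Agent.S2332

/-!
# Homomorphisms whose class is the cube root of an ample class

* `hom_mul`, `hom_pow` : the homomorphism attached to a class is multiplicative in the class;
* `symm` : if `hom φ ((1, lam)^* P) = lam ^ 2` then `P(a, lam b) = P(b, lam a)`;
* `ample` : over an algebraically closed field, if `φ_L = (φ_N) ^ n`, `n ≥ 1` and `L` is ample, then `N` is ample.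
-/

set_option autoImplicit false
universe u

open CategoryTheory Limits MonoidalCategory CartesianMonoidalCategory AlgebraicGeometry
open scoped MonObj

namespace K513.PolSym

open Groth.Agent.Grpsch.PicGrp Groth.Agent.Grpsch.Cube Groth.Agent.Fga.RigGrp K732.PicZero K732.Prim K732.Dual
  K732.CubeSec
open K814 K732.BC K528.MumZero MumHom

section gen

variable {S : Scheme.{u}} {A At : Over S} [GrpObj A] [GrpObj At]

lemma mumCl_mul (c d : Pic A.left) : mumCl A (c * d) = mumCl A c * mumCl A d := by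
  simp only [mumCl, map_mul, mul_inv]
  exact mul_mul_mul_comm₃ _ _ _ _ _ _
where
  mul_mul_mul_comm₃ {G : Type (u+1)} [CommGroup G] (a b c d e f : G) :
      a * b * (c * d) * (e * f) = a * c * e * (b * d * f) := by
    rw [mul_mul_mul_comm a b c d, mul_mul_mul_comm]

variable [IsProper A.hom] [Flat A.hom] [LocallyOfFinitePresentation A.hom] [GeometricallyIntegral A.hom]
  {φ : ∀ T : Over S, PicF.Cl (PicF.XT A.hom T) → (T ⟶ At)}
  (hD : AbDual.IsDualAV Scheme.fppfPrecoverage A At φ)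

include hD

omit [Flat A.hom] [LocallyOfFinitePresentation A.hom] in
theorem hom_mul (c d : Pic A.left) : hom φ (c * d) = hom φ c * hom φ d := by
  rw [hom, hom, hom, mumCl_mul, cm_mul hD (mum_pz c) (mum_pz d)]

omit [Flat A.hom] [LocallyOfFinitePresentation A.hom] in
theorem hom_one : hom φ (1 : Pic A.left) = 1 := by
  have h := hom_mul hD (1 : Pic A.left) 1
  rw [_root_.one_mul] at h
  exact mul_eq_left.1 h.symm

omit [Flat A.hom] [LocallyOfFinitePresentation A.hom] in
theorem hom_pow (c : Pic A.left) (n : ℕ) : hom φ (c ^ n) = hom φ c ^ n := by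
  induction n with
  | zero => rw [pow_zero, pow_zero, hom_one hD]
  | succ n ih => rw [pow_succ, pow_succ, hom_mul hD, ih]

omit [Flat A.hom] [LocallyOfFinitePresentation A.hom] in
theorem hom_inv (c : Pic A.left) : hom φ c⁻¹ = (hom φ c)⁻¹ := by
  have h := hom_mul hD c c⁻¹
  rw [mul_inv_cancel, hom_one hD] at h
  exact eq_inv_of_mul_eq_one_right h.symm

variable {ξ : Pic (PicF.XT A.hom At)} (h1 : ξ ∈ pz A.hom At) (h2 : ξ ∈ rg A At) (h3 : cm φ ξ = 𝟙 At)

include h1 h2 h3

omit hD h1 h3 [IsProper A.hom] [Flat A.hom] [LocallyOfFinitePresentation A.hom] [GeometricallyIntegral A.hom] in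
theorem ev_rig (lam : A ⟶ At) [IsMonHom lam] : pull (η[A] : 𝟙_ (Over S) ⟶ A).left (ev (𝟙 A) lam ξ) = 1 := by
  rw [pull_ev, Category.comp_id, MonObj.one_eq_one, ev_one_of_mem h2]

/-- **Symmetry**: if the homomorphism attached to `(1, lam)^* P` is `lam ^ 2` then `P(a, lam b) = P(b, lam a)`. -/
theorem symm (lam : A ⟶ At) [IsMonHom lam] (hl : hom φ (ev (𝟙 A) lam ξ) = lam * lam) {W : Over S} (a b : W ⟶ A) :
    ev a (b ≫ lam) ξ = ev b (a ≫ lam) ξ := by
  have e := ev_hom hD h1 h2 h3 (ev_rig h2 lam) a b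
  rw [hl, MonObj.comp_mul, Pair.ev_mul_right hD h1 h2 h3, Graph.gr_point, Graph.gr_point, Graph.gr_point,
    Graph.gr_mul hD h1 h2 h3 lam a b] at e
  generalize ev a (b ≫ lam) ξ = x at e ⊢
  generalize ev b (a ≫ lam) ξ = y at e ⊢
  generalize ev a (a ≫ lam) ξ = p at e
  generalize ev b (b ≫ lam) ξ = q at e
  rw [mul_right_comm (x * y) p q, mul_inv_cancel_right, mul_inv_cancel_right] at e
  exact mul_left_cancel e

end gen

section field

variable {Ω : Type u} [Field Ω] [IsAlgClosed Ω] {A At : Over (Spec (CommRingCat.of Ω))} [GrpObj A] [GrpObj At]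
  [IsProper A.hom] [GeometricallyIntegral A.hom]
  {φ : ∀ T : Over (Spec (CommRingCat.of Ω)), PicF.Cl (PicF.XT A.hom T) → (T ⟶ At)}
  (hD : AbDual.IsDualAV Scheme.fppfPrecoverage A At φ)

omit [IsAlgClosed Ω] [GrpObj At] [IsProper A.hom] [GeometricallyIntegral A.hom] in
theorem isIso_tr (x : 𝟙_ (Over (Spec (CommRingCat.of Ω))) ⟶ A) : IsIso (K512.Phi.tr x) := by
  refine ⟨K512.Phi.tr x⁻¹, ?_, ?_⟩
  · rw [K512.Phi.comp_tr, _root_.mul_assoc, ← MonObj.comp_mul, mul_inv_cancel, MonObj.comp_one, _root_.mul_one]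
  · rw [K512.Phi.comp_tr, _root_.mul_assoc, ← MonObj.comp_mul, inv_mul_cancel, MonObj.comp_one, _root_.mul_one]

include hD

omit [IsAlgClosed Ω] in
/-- A class with trivial attached homomorphism is translation invariant. -/
theorem tr_inv (m : Pic A.left) (hm : hom φ m = 1) (x : 𝟙_ (Over (Spec (CommRingCat.of Ω))) ⟶ A) :
    pl (K512.Phi.tr x) m = m := by
  have h1 := (comp_hom_eq_one_iff hD (pic_spec_local Ω (pull (η[A] : 𝟙_ _ ⟶ A).left m)) x).1
    (by rw [hm, MonObj.comp_one])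
  have h2 := congrArg (ev (𝟙 A) (toUnit A)) h1
  have h3 : pull (toUnit A ≫ x).left m = 1 := by
    rw [Over.comp_left, pull_comp, pic_spec_local Ω (pull x.left m), map_one]
  rwa [map_one, ev_XTmap, ev_mum, h3, inv_one, _root_.mul_one, Over.id_left, mul_inv_eq_one, pull_id] at h2

/-- **Ampleness.** -/
theorem ample {L N : A.left.Modules} (hL : CohB1.IsAmple L) (hN : PicF.IsInvertible N) (n : ℕ) (hn : 1 ≤ n)
    (h : hom φ (mk L hL.1) = hom φ (mk N hN) ^ n) : CohB1.IsAmple N := by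
  have e1 : hom φ ((mk L hL.1)⁻¹ * mk N hN ^ n) = 1 := by
    rw [hom_mul hD, hom_inv hD, hom_pow hD, h, inv_mul_cancel]
  obtain ⟨x, hx⟩ := K512.PhiSurj.exists_eq_of_isAmple L hL _ (tr_inv hD _ e1)
  have e2 : mk N hN ^ n = pl (K512.Phi.tr x) (mk L hL.1) := by
    rw [mul_comm] at hx
    exact (mul_left_cancel hx).symm
  rw [pl, pull_mk _ hL.1, ← mk_tensorPow hN n, mk_eq_iff] at e2
  obtain ⟨i⟩ := e2
  have := isIso_tr x
  have hiso : IsIso (K512.Phi.tr x).left := inferInstanceAs (IsIso ((Over.forget _).map (K512.Phi.tr x)))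
  rw [K30.AmpleLoc.isAmple_iff_tensorPow hN hn]
  exact Groth.Agent.CohqB.AmpCocycle.isAmple_of_iso i.symm
    (Groth.Agent.CohqB.AmpCocycle.isAmple_pullback (K512.Phi.tr x).left hL)

end field

end K513.PolSym
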